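import Cfsg.Agent.H98.SubfieldOrth.Odd
import Cfsg.Agent.H97.OmegaEight.SubOdd

/-!
Odd characteristic, dimension ten, any prime index: an overgroup element not preserving the rational structure
yields a new parameter.
-/

set_option autoImplicit false

namespace Cfsg.Agent.H72.SubTen

open QuadraticMap Module Cfsg.Agent.Orthogonal Cfsg.Agent.H98.SubfieldOrth
open Cfsg.Agent.H98.SubfieldOrth.RatStr

variable {F V : Type*} [Field F] [Finite F] [AddCommGroup V] [Module F V] [FiniteDimensional F V]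
  {Q : QuadraticForm F V} {F₀ : Subfield F} {R : RatStr Q F₀} {X : Subgroup (O Q)}
  (hQ : Nondeg Q) (h2 : (2 : F) ≠ 0) (hn : finrank F V = 10) (hX : R.Over X) (hT : R.NoNew X)
include hQ h2 hn hX hT

/-- An element carrying a rational involution with two eigenspaces of dimension at least three to a rational one
preserves the rational structure. -/
theorem stab_of_invol {g s w : O Q} (hg : g ∈ X) (hsR : R.RatEl s) (hs : s * s = 1) (hwR : R.RatEl w)
    (hw : w * w = 1) (h : g * s = w * g) (hk1 : 3 ≤ finrank F (eig s (-1 : F)))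
    (hk2 : finrank F (eig s (-1 : F)) ≤ 7) : R.Stab g := by
  have := R.finiteDimensional
  have hwk := finrank_eig_of_conj h (-1 : F)
  have hws := finrank_eig_add h2 hw
  obtain ⟨⟨y, hyE⟩, hy0, hy⟩ := (nondeg_eig₀ h2 hsR hs (Or.inr rfl)).exists_singular
    (by rw [finrank_eig₀ h2 hsR hs (Or.inr rfl)]; omega)
  rw [restr_apply] at hy
  refine Cfsg.Agent.H97.OmegaEight.Sub.stab_of_perp hQ (by omega) hX hT hg (fun e => hy0 (Subtype.ext e)) hy
    (nondeg_eig₀ h2 hwR hw (Or.inl rfl)) (by rw [finrank_eig₀ h2 hwR hw (Or.inl rfl)]; omega) fun c hc => ?_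
  refine eig_orth h2 (Or.inl rfl) (mem_eig.2 (R.mem_eig₀.1 hc)) (mem_eig.2 ?_)
  rw [app_conj h, R.mem_eig₀.1 hyE, map_smul]

/-- One round: a further pair of conjugate rational involutions. -/
theorem round {g z₀' z₀ : O Q} (hg : g ∈ X) (hR₀' : R.RatEl z₀') (hi₀' : z₀' * z₀' = 1)
    (hR₀ : R.RatEl z₀) (hi₀ : z₀ * z₀ = 1) (hconj : g * z₀' = z₀ * g) (jr jt k₀ : ℕ)
    (hk₀ : finrank F (eig z₀' (-1 : F)) = k₀) (hjr : 2 * jr + k₀ < 10) (hjt : 2 * jt + k₀ < 10) (hne : jr ≠ jt)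
    (hbad : 10 - k₀ ≠ 2 * jr + 2 * jr ∧ 10 - k₀ ≠ 2 * jr + 2 * jt)
    (hst : ∀ h ∈ X, ∀ s : O Q, R.RatEl s → s * s = 1 →
      (finrank F (eig s (-1 : F)) = 2 * jr ∨ finrank F (eig s (-1 : F)) = 2 * jt) → Commute h s → R.Stab h) :
    ∃ z' z : O Q, R.RatEl z' ∧ z' * z' = 1 ∧ R.RatEl z ∧ z * z = 1 ∧ g * z' = z * g ∧
      Commute z z₀ ∧ Commute z' z₀' ∧ (∀ v ∈ eig z₀ (-1 : F), (z : V ≃ₗ[F] V) v = v) ∧
      Even (finrank F (eig z' (-1 : F))) ∧ 1 ≤ finrank F (eig z' (-1 : F)) ∧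
      finrank F (eig z' (-1 : F)) + k₀ < 10 := by
  have := R.finiteDimensional
  have hO : Finite (O Q) := finite_O
  have hsum' := finrank_eig_add h2 hi₀'
  have hsum := finrank_eig_add h2 hi₀
  have hd₀ : finrank F (eig z₀ (-1 : F)) = k₀ := by rw [← finrank_eig_of_conj hconj, hk₀]
  obtain ⟨r, hrc, hrR, hrr, hdr, hrfix, -⟩ :=
    exists_negation hQ h2 (nondeg_eig₀ h2 hR₀' hi₀' (Or.inl rfl)) jr
      (by rw [finrank_eig₀ h2 hR₀' hi₀' (Or.inl rfl)]; omega)
  obtain ⟨t, htc, htR, htt, hdt, htfix, -⟩ :=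
    exists_negation hQ h2 (nondeg_eig₀ h2 hR₀ hi₀ (Or.inl rfl)) jt
      (by rw [finrank_eig₀ h2 hR₀ hi₀ (Or.inl rfl)]; omega)
  have hfixneg : ∀ {s w : O Q}, R.RatEl w → w * w = 1 →
      (∀ v : R.V₀, v ∈ perp R.Q₀ (R.eig₀ w 1) → (s : V ≃ₗ[F] V) v = v) →
      ∀ v ∈ eig w (-1 : F), (s : V ≃ₗ[F] V) v = v := by
    intro s w hwR hw hfix v hv
    have hle : eig w (-1 : F) ≤ eig s 1 := (eig_le_spanF h2 hwR hw (Or.inr rfl)).trans <| by
      rw [spanF, Submodule.span_le]
      rintro _ ⟨x, hx, rfl⟩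
      rw [SetLike.mem_coe, mem_eig, one_smul]
      refine hfix x fun c hc => Subtype.ext ?_
      rw [R.polar_coe, ZeroMemClass.coe_zero]
      exact eig_orth h2 (Or.inl rfl) (mem_eig.2 (R.mem_eig₀.1 hc)) (mem_eig.2 (R.mem_eig₀.1 hx))
    simpa using mem_eig.1 (hle hv)
  have hrf := hfixneg hR₀' hi₀' hrfix
  have htf := hfixneg hR₀ hi₀ htfix
  have hrX : r ∈ X := hX.rat r hrc hrR
  have htX : t ∈ X := hX.rat t htc htR
  set r' := g * r * g⁻¹ with hr'
  have hr'X : r' ∈ X := mul_mem (mul_mem hg hrX) (inv_mem hg)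
  have hr'r' : r' * r' = 1 := by
    rw [hr', show g * r * g⁻¹ * (g * r * g⁻¹) = g * (r * r) * g⁻¹ by group, hrr, mul_one, mul_inv_cancel]
  have hr'f : ∀ v ∈ eig z₀ (-1 : F), (r' : V ≃ₗ[F] V) v = v := by
    intro v hv
    have hv' : v ∈ eig (g * z₀' * g⁻¹) (-1 : F) := by rwa [hconj, mul_inv_cancel_right]
    rw [eig_conj] at hv'
    obtain ⟨x, hx, rfl⟩ := hv'
    rw [hr', Subgroup.coe_mul, Subgroup.coe_mul, mul_app, mul_app, LinearEquiv.coe_coe, Subgroup.coe_inv]
    show (g : V ≃ₗ[F] V) ((r : V ≃ₗ[F] V) ((g : V ≃ₗ[F] V).symm ((g : V ≃ₗ[F] V) x))) = _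
    rw [LinearEquiv.symm_apply_apply, hrf x hx]
  -- dimensions of the negated spaces
  have edt : finrank F (eig t (-1 : F)) = 2 * jt := by rw [← finrank_eig₀ h2 htR htt (Or.inr rfl)]; omega
  have edr₀ : finrank F (eig r (-1 : F)) = 2 * jr := by rw [← finrank_eig₀ h2 hrR hrr (Or.inr rfl)]; omega
  have edr : finrank F (eig r' (-1 : F)) = 2 * jr := by rw [hr', finrank_eig_conj, edr₀]
  obtain ⟨j, hzz, hz1, hzt, hzr, -, hcr⟩ := exists_central htt hr'r' fun k hk => by
    have h46 := finrank_eig_conj k t (-1 : F)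
    rw [hk, edr, edt] at h46
    omega
  set z := (t * r') ^ j with hz
  have hzX : z ∈ X := pow_mem (mul_mem htX hr'X) j
  have hzf : ∀ v ∈ eig z₀ (-1 : F), (z : V ≃ₗ[F] V) v = v := by
    intro v hv
    rw [hz]
    clear * - htf hr'f hv
    induction j with
    | zero => simp
    | succ i ih => rw [pow_succ, Subgroup.coe_mul, mul_app, Subgroup.coe_mul, mul_app, hr'f v hv, htf v hv, ih]
  -- an involution of Ω preserving the structure up to a scalar is rational
  have hrat : ∀ a ∈ X, a * a = 1 → R.Stab a → R.RatEl a := fun a ha haa haS => by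
    refine ratEl_of_unequal (by omega) haS fun e => ?_
    obtain ⟨m, hm⟩ := Cfsg.Agent.H97.OmegaEight.Sub.invol_even h2 haa (hX.le ha)
    have := finrank_eig_add h2 haa
    omega
  have hzR : R.RatEl z := hrat z hzX hzz (hst z hzX t htR htt (Or.inr edt) hzt)
  -- its conjugate is rational
  set z' := g⁻¹ * z * g with hz'
  have hgz : g * z' = z * g := by rw [hz']; group
  have hz'X : z' ∈ X := mul_mem (mul_mem (inv_mem hg) hzX) hg
  have hz'z' : z' * z' = 1 := by
    rw [hz', show g⁻¹ * z * g * (g⁻¹ * z * g) = g⁻¹ * (z * z) * g by group, hzz, mul_one, inv_mul_cancel]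
  have hz'r : Commute z' r := by
    show z' * r = r * z'
    rw [hz', show g⁻¹ * z * g * r = g⁻¹ * (z * r') * g by rw [hr']; group, hzr.eq, hr']
    group
  have hz'R : R.RatEl z' := hrat z' hz'X hz'z' (hst z' hz'X r hrR hrr (Or.inl edr₀) hz'r)
  have hzc : Commute z z₀ := commute_of_fix hQ hzz hi₀ hzf
  refine ⟨z', z, hz'R, hz'z', hzR, hzz, hgz, hzc, ?_, hzf, ?_, ?_⟩
  · show z' * z₀' = z₀' * z'
    have e : z₀' = g⁻¹ * z₀ * g := by rw [mul_assoc, ← hconj, inv_mul_cancel_left]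
    rw [hz', e, show g⁻¹ * z * g * (g⁻¹ * z₀ * g) = g⁻¹ * (z * z₀) * g by group, hzc.eq]
    group
  · rw [finrank_eig_of_conj hgz]
    exact Cfsg.Agent.H97.OmegaEight.Sub.invol_even h2 hzz (hX.le hzX)
  rw [finrank_eig_of_conj hgz]
  have hsumz := finrank_eig_add h2 hzz
  have hdis : eig z (-1 : F) ⊓ eig z₀ (-1 : F) = ⊥ := eq_bot_iff.2 fun v hv => by
    have h1 := mem_eig.1 hv.1
    rw [hzf v hv.2, neg_one_smul, eq_neg_iff_add_eq_zero, ← two_smul F, smul_eq_zero] at h1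
    exact (Submodule.mem_bot F).2 (h1.resolve_left h2)
  constructor
  · by_contra h0
    have h00 : eig z (-1 : F) = ⊥ := Submodule.finrank_eq_zero.1 (by omega)
    refine hz1 (O.ext_app fun v => ?_)
    have hmem : v - (z : V ≃ₗ[F] V) v ∈ eig z (-1 : F) := by
      rw [mem_eig, map_sub, invol_app hzz, neg_one_smul, neg_sub]
    rw [h00, Submodule.mem_bot, sub_eq_zero] at hmem
    exact hmem.symm
  by_contra hbig
  -- otherwise `z` is minus the involution of the previous round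
  have h1 := Submodule.finrank_sup_add_finrank_inf_eq (eig z (-1 : F)) (eig z₀ (-1 : F))
  have h1' := Submodule.finrank_le (eig z (-1 : F) ⊔ eig z₀ (-1 : F))
  rw [hdis, finrank_bot] at h1
  have hle₀ : eig z₀ (-1 : F) ≤ eig z (1 : F) := fun v hv => by rw [mem_eig, one_smul, hzf v hv]
  have hplus : eig z (1 : F) = eig z₀ (-1 : F) := (Submodule.eq_of_le_of_finrank_le hle₀ (by omega)).symm
  have hle₁ : eig z₀ (1 : F) ≤ eig z (-1 : F) := fun v hv => by
    have hm : v + (z : V ≃ₗ[F] V) v ∈ eig z (1 : F) := by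
      rw [mem_eig, map_add, invol_app hzz, one_smul, add_comm]
    rw [hplus, mem_eig, map_add, ← mul_app, ← Subgroup.coe_mul, ← hzc.eq, Subgroup.coe_mul, mul_app,
      mem_eig.1 hv, one_smul, neg_one_smul, eq_neg_iff_add_eq_zero, ← two_smul F, smul_eq_zero] at hm
    rw [mem_eig, neg_one_smul]
    exact eq_neg_of_add_eq_zero_right (hm.resolve_left h2)
  have hrneg : eig r' (-1 : F) ≤ eig z (-1 : F) := fun v hv => by
    have hm : v + (z : V ≃ₗ[F] V) v ∈ eig z (1 : F) := by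
      rw [mem_eig, map_add, invol_app hzz, one_smul, add_comm]
    rw [hplus] at hm
    have h3 := hr'f _ hm
    rw [map_add, mem_eig.1 hv, ← mul_app, ← Subgroup.coe_mul, ← hzr.eq, Subgroup.coe_mul, mul_app, mem_eig.1 hv,
      map_smul, ← smul_add, neg_one_smul, neg_eq_iff_add_eq_zero, ← two_smul F, smul_eq_zero] at h3
    rw [mem_eig, neg_one_smul]
    exact eq_neg_of_add_eq_zero_right (h3.resolve_left h2)
  -- the product of `z` and `r'`
  have hA : eig z (-1 : F) ⊓ eig r' (1 : F) ≤ eig (z * r') (-1 : F) := fun v hv => by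
    rw [mem_eig, Subgroup.coe_mul, mul_app, mem_eig.1 hv.2, one_smul, mem_eig.1 hv.1]
  have hB : eig r' (-1 : F) ⊔ eig z₀ (-1 : F) ≤ eig (z * r') (1 : F) := sup_le
    (fun v hv => by
      rw [mem_eig, Subgroup.coe_mul, mul_app, mem_eig.1 hv, map_smul, mem_eig.1 (hrneg hv), smul_smul, neg_mul_neg,
        one_mul])
    fun v hv => by rw [mem_eig, Subgroup.coe_mul, mul_app, hr'f v hv, one_smul, hzf v hv]
  have hB0 : eig r' (-1 : F) ⊓ eig z₀ (-1 : F) = ⊥ :=
    eq_bot_iff.2 ((inf_le_inf_right _ hrneg).trans_eq hdis)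
  have a1 := Submodule.finrank_mono hA
  have a2 := Submodule.finrank_mono hB
  have a3 := Submodule.finrank_sup_add_finrank_inf_eq (eig r' (-1 : F)) (eig z₀ (-1 : F))
  rw [hB0, finrank_bot] at a3
  have a4 := Submodule.finrank_sup_add_finrank_inf_eq (eig z (-1 : F)) (eig r' (1 : F))
  have a4' := Submodule.finrank_le (eig z (-1 : F) ⊔ eig r' (1 : F))
  have a5 := finrank_eig_add h2 hr'r'
  have a6 := finrank_eig_add h2 (show z * r' * (z * r') = 1 by rw [hzr.symm.mul_mul_mul_comm, hzz, hr'r', one_mul])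
  obtain ⟨k, hk | hk⟩ := hcr
  · have h4 := finrank_eig_conj k t (-1 : F)
    rw [hk, edt] at h4
    omega
  · have h4 := finrank_eig_conj k r' (-1 : F)
    rw [hk, edr] at h4
    omega

/-- An element carrying a rational involution negating a plane to a rational one preserves the rational
structure. -/
theorem stab_of_plane {g s w : O Q} (hg : g ∈ X) (hsR : R.RatEl s) (hs : s * s = 1) (hwR : R.RatEl w)
    (hw : w * w = 1) (h : g * s = w * g) (hk : finrank F (eig s (-1 : F)) = 2) : R.Stab g := by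
  have := R.finiteDimensional
  obtain ⟨x', x, hxR', hxi', hxR, hxi, hgx, hc, hc', hxf, ⟨m, hm⟩, hx1, hx8⟩ :=
    round hQ h2 hn hX hT hg hsR hs hwR hw h 3 2 2 hk (by omega) (by omega) (by omega) (by omega)
      fun a ha s' hsR' hs' hd hc => stab_of_invol hQ h2 hn hX hT ha hsR' hs' hsR' hs' hc.eq (by omega) (by omega)
  by_cases h3 : 3 ≤ finrank F (eig x' (-1 : F))
  · exact stab_of_invol hQ h2 hn hX hT hg hxR' hxi' hxR hxi hgx h3 (by omega)
  obtain ⟨hlt, hconj', hle⟩ := combine (g := g) h2 hsR hs hwR hw h hxR' hxi' hxR hxi hgx hc hc' hxf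
    (by rw [finrank_eig₀ h2 hxR' hxi' (Or.inr rfl)]; omega)
  have hii : x' * s * (x' * s) = 1 := by rw [hc'.symm.mul_mul_mul_comm, hxi', hs, one_mul]
  rw [finrank_eig₀ h2 (hxR'.mul hsR) hii (Or.inr rfl), finrank_eig₀ h2 hsR hs (Or.inr rfl)] at hlt
  rw [finrank_eig₀ h2 (hxR'.mul hsR) hii (Or.inr rfl), finrank_eig₀ h2 hsR hs (Or.inr rfl),
    finrank_eig₀ h2 hxR' hxi' (Or.inr rfl)] at hle
  exact stab_of_invol hQ h2 hn hX hT hg (hxR'.mul hsR) hii (hxR.mul hwR)
    (by rw [hc.symm.mul_mul_mul_comm, hxi, hw, one_mul]) hconj' (by omega) (by omega)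

/-- No new parameters: every element of `X` preserves the rational structure up to a scalar. -/
theorem stab_of_noNew_odd_ten {g : O Q} (hg : g ∈ X) : R.Stab g := by
  have := R.finiteDimensional
  have h10 : finrank F (eig (1 : O Q) (-1 : F)) = 0 := by
    rw [Submodule.finrank_eq_zero]
    refine eq_bot_iff.2 fun v hv => (Submodule.mem_bot _).2 ?_
    have h := mem_eig.1 hv
    rw [OneMemClass.coe_one, one_app, neg_smul, one_smul, eq_neg_iff_add_eq_zero, ← two_smul F] at h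
    exact (smul_eq_zero.1 h).resolve_left h2
  obtain ⟨z', z, hR', hi', hR, hi, hgz, -, -, -, ⟨m, hm⟩, h1, h10'⟩ :=
    round hQ h2 hn hX hT hg ratEl_one (one_mul 1) ratEl_one (one_mul 1) (by simp) 1 2 0 h10 (by omega) (by omega)
      (by omega) (by omega) fun a ha s hsR hs hd hc => by
        rcases hd with hd | hd
        · exact stab_of_plane hQ h2 hn hX hT ha hsR hs hsR hs hc.eq (by omega)
        · exact stab_of_invol hQ h2 hn hX hT ha hsR hs hsR hs hc.eq (by omega) (by omega)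
  rcases (show finrank F (eig z' (-1 : F)) = 2 ∨ (3 ≤ finrank F (eig z' (-1 : F)) ∧
      finrank F (eig z' (-1 : F)) ≤ 7) ∨ finrank F (eig z' (-1 : F)) = 8 by omega) with h | h | h
  · exact stab_of_plane hQ h2 hn hX hT hg hR' hi' hR hi hgz h
  · exact stab_of_invol hQ h2 hn hX hT hg hR' hi' hR hi hgz h.1 h.2
  -- negate
  let ν : O Q := ⟨LinearEquiv.neg F, fun x => QuadraticMap.map_neg Q x⟩
  have hν : ∀ v : V, (ν : V ≃ₗ[F] V) v = -v := fun v => rfl
  have hνc : ∀ a : O Q, Commute a ν := fun a => O.ext_app fun v => by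
    simp only [Subgroup.coe_mul, mul_app, hν, map_neg]
  have hνν : ν * ν = 1 := O.ext_app fun v => by simp [mul_app, hν]
  have hνR : R.RatEl ν := fun v hv => by rw [hν]; exact R.V₀.neg_mem hv
  refine stab_of_plane hQ h2 hn hX hT hg (hR'.mul hνR)
    (by rw [(hνc z').symm.mul_mul_mul_comm, hi', hνν, one_mul]) (hR.mul hνR)
    (by rw [(hνc z).symm.mul_mul_mul_comm, hi, hνν, one_mul])
    (by rw [← mul_assoc, hgz, mul_assoc, (hνc g).eq, mul_assoc]) ?_
  have he : eig (z' * ν) (-1 : F) = eig z' (1 : F) := by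
    ext v
    simp only [mem_eig, Subgroup.coe_mul, mul_app, hν, map_neg, neg_one_smul, one_smul, neg_inj]
  rw [he]
  have := finrank_eig_add h2 hi'
  omega

end Cfsg.Agent.H72.SubTen
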