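import Cfsg.Agent.H97.OmegaEight.SubMain
import Cfsg.Agent.H72.SubTen.Odd

/-!
Maximality of subfield groups of any prime index in dimension ten.
-/

set_option autoImplicit false

namespace Cfsg.Agent.H72.SubTen

open QuadraticMap Module Cfsg.Agent.Orthogonal Cfsg.Agent.H98.SubfieldOrth Cfsg.Agent.H98
open Cfsg.Agent.H98.SubfieldOrth.RatStr
open scoped Matrix

variable {F : Type*} [Field F] [Fintype F] {ι : Type} [Fintype ι] [DecidableEq ι]

variable (F₀ : Subfield F) (P : GL ι F) (Q : QuadraticForm F (ι → F))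

/-- Maximality of the subfield group in Ω. -/
theorem isMaximalIn_subfield_ten (hQ : Nondeg Q) (hn : Fintype.card ι = 10) (r : ℕ) (hr : r.Prime)
    (hcard : Fintype.card F = Nat.card F₀ ^ r)
    (hP : Cfsg.Geo.IsQuadFormRationalStructure (⇑Q) F₀ P) :
    Cfsg.Geo.IsMaximalIn (Cfsg.Geo.omegaGL ⇑Q) (Cfsg.Geo.subfieldSubgroup F₀ P ⊓ Cfsg.Geo.omegaGL ⇑Q) := by
  obtain ⟨R, hR⟩ := exists_ratStr F₀ P Q hQ hP
  have hd : finrank F (ι → F) = 10 := by rwa [Module.finrank_fintype_fun_eq_card]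
  have hd0 : finrank F₀ R.V₀ = finrank F (ι → F) := R.finrank_eq
  have hmax := subfield_cases hr hcard
  have := R.finiteDimensional
  have hmem : ∀ x : O Q, H96.om Q x ∈ Cfsg.Geo.subfieldSubgroup F₀ P ↔ R.Stab x := fun x => by
    rw [mem_subfieldSubgroup_iff]
    refine exists_congr fun c => and_congr_right fun _ => ?_
    rw [hR]
    refine forall₂_congr fun v _ => ?_
    rw [H96.om_mulVec]
  refine ⟨lt_of_le_not_ge inf_le_right fun h => ?_, fun M hM hMG => ?_⟩
  · obtain ⟨e, -, f, -, he, hf, hef, he0, C, -, hC, hdC, hCef⟩ :=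
      exists_hyp R.nondeg (nondeg_restr_top R.nondeg) (by rw [finrank_top]; omega)
    rw [finrank_top] at hdC
    obtain ⟨x, hxC, y, hyC, hx, -, hxy, -⟩ := exists_hyp R.nondeg hC (by omega)
    obtain ⟨a, ha⟩ : ∃ a : F, a ∉ F₀ := by
      by_contra hc
      push Not at hc
      have h1 : Nat.card F₀ = Fintype.card F := by
        rw [← Nat.card_eq_fintype_card]
        exact Nat.card_congr (Equiv.subtypeUnivEquiv hc)
      rw [h1] at hcard
      have h3 := Nat.pow_lt_pow_right (Fintype.one_lt_card (α := F)) hr.one_lt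
      rw [pow_one, ← hcard] at h3
      exact lt_irrefl _ h3
    have hex : polar Q (e : ι → F) (a • (x : ι → F)) = 0 := by
      rw [polar_smul_right', R.orth (hCef x hxC).1, mul_zero]
    set s := sie (e : ι → F) (a • (x : ι → F)) (R.sing he) hex with hs
    have hsS := (hmem s).1 (h ((H96.mem_omegaGL_iff Q _).2
      ⟨s, OrthMax.sie_mem_commutator hQ (by omega) _ _, rfl⟩)).1
    obtain ⟨c, hc, hcV⟩ := hsS
    have h1 := hcV e e.2
    rw [hs, sie_fix] at h1
    have hcF : c⁻¹ ∈ F₀ := by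
      have := R.polar_mem f ⟨_, h1⟩
      rwa [polar_smul_right', polar_comm, R.one hef, mul_one] at this
    have h3 : polar Q (f : ι → F) (c⁻¹ • (s : (ι → F) ≃ₗ[F] (ι → F)) y) ∈ F₀ := R.polar_mem f ⟨_, hcV y y.2⟩
    rw [hs, sie_app, polar_smul_left', R.one hxy, R.orth (hCef y hyC).1, mul_one, mul_zero, sub_zero, zero_smul,
      sub_zero, polar_smul_right', polar_add_right, polar_smul_right', R.orth (hCef y hyC).2,
      polar_comm (⇑Q) (f : ι → F) (e : ι → F), R.one hef, zero_add, mul_one] at h3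
    refine ha ?_
    have := F₀.mul_mem (F₀.inv_mem hcF) h3
    rwa [inv_inv, ← mul_assoc, mul_inv_cancel₀ hc, one_mul] at this
  by_cases hMS : M ≤ Cfsg.Geo.subfieldSubgroup F₀ P
  · exact Or.inl (le_antisymm (le_inf hMS hMG) hM)
  refine Or.inr (le_antisymm hMG ?_)
  set X := M.comap (H96.om Q) with hX'
  have hX : R.Over X := by
    refine ⟨fun s hs hsR => hM ⟨(hmem s).2 ⟨1, one_ne_zero, fun v hv => ?_⟩,
      (H96.mem_omegaGL_iff Q _).2 ⟨s, hs, rfl⟩⟩, fun s hs => ?_⟩
    · rw [inv_one, one_smul]; exact hsR v hv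
    · obtain ⟨y, hy, hye⟩ := (H96.mem_omegaGL_iff Q _).1 (hMG hs)
      exact H96.om_injective Q hye ▸ hy
  obtain ⟨g, hg, hgS⟩ := SetLike.not_le_iff_exists.1 hMS
  obtain ⟨x, hx, rfl⟩ := (H96.mem_omegaGL_iff Q g).1 (hMG hg)
  have hT : ¬ R.NoNew X := fun hT => hgS ((hmem x).2 (by
    by_cases h2 : (2 : F) = 0
    · exact H97.OmegaEight.Sub.stab_of_noNew_two hQ h2 (by omega) hX hT (fun W _ hW4 => by omega) hg
    · exact stab_of_noNew_odd_ten hQ h2 hd hX hT hg))
  have hle := H97.OmegaEight.Sub.sieGroup_le_of_new hQ (by omega) hX hmax hT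
  intro g hg
  obtain ⟨y, hy, rfl⟩ := (H96.mem_omegaGL_iff Q g).1 hg
  rw [← sieGroup_eq_commutator hQ (by omega)] at hy
  exact hle hy

end Cfsg.Agent.H72.SubTen
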